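import Groth.Agent.L03.ShStab.GeneralSections
import Mathlib.AlgebraicGeometry.Fiber

/-!
General sections of a bundle along a fibre of dimension at most one, and their persistence over a neighbourhood.
-/

set_option autoImplicit false
set_option backward.isDefEq.respectTransparency false
set_option linter.style.haveILetI false

universe u

open CategoryTheory CategoryTheory.Limits AlgebraicGeometry TopologicalSpace Opposite

noncomputable section

namespace Groth.L21.FibSec

open Groth.L12.FinCov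
open Groth.L03.ShStab.GeneralSections (isBasisOn_update lc_single)

variable {X U : Scheme.{u}} {E : X.Modules} {r : ℕ}

/-- The sections are part of a local basis at the point. -/
def Part (E : X.Modules) (r : ℕ) {h : ℕ} (τ : Fin h → Γ(E, ⊤)) (x : X) : Prop :=
  ∃ (V : X.Opens) (e : Fin r → Γ(E, V)) (g : Fin h ↪ Fin r),
    IsAffineOpen V ∧ x ∈ V ∧ IsBasisOn E V e ∧ ∀ i, e (g i) = rM E le_top (τ i)

theorem isOpen_part {h : ℕ} (τ : Fin h → Γ(E, ⊤)) : IsOpen {x : X | Part E r τ x} :=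
  isOpen_iff_forall_mem_open.2 fun _ ⟨V, e, g, hV, hx, he, heg⟩ =>
    ⟨V, fun _ hy => ⟨V, e, g, hV, hy, he, heg⟩, V.2, hx⟩

theorem part_zero (hE : FlatMod.IsFinLocFreeOfRank r E) (τ : Fin 0 → Γ(E, ⊤)) (x : X) : Part E r τ x := by
  obtain ⟨V, b, hV, hxV, -, hb⟩ := exists_basisOn_of_rank hE x ⊤ trivial
  exact ⟨V, b, ⟨Fin.elim0, fun i => i.elim0⟩, hV, hxV, hb, fun i => i.elim0⟩

theorem part_restrict {h h' : ℕ} {τ : Fin h → Γ(E, ⊤)} {x : X} (hx : Part E r τ x) (j : Fin h' ↪ Fin h) :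
    Part E r (τ ∘ j) x := by
  obtain ⟨V, e, g, hV, hxV, he, heg⟩ := hx
  exact ⟨V, e, j.trans g, hV, hxV, he, fun i => heg (j i)⟩

/-- Finitely many sections generating at a point combine into a given section near it. -/
theorem exists_coeff_nhd {N : ℕ} (σ : Fin N → Γ(E, ⊤)) {x : X}
    (hσ : Submodule.span (X.presheaf.stalk x) (Set.range fun j => E.presheaf.germ ⊤ x trivial (σ j)) = ⊤)
    {V : X.Opens} (hx : x ∈ V) (e : Γ(E, V)) :
    ∃ (V' : X.Opens) (hle : V' ≤ V), IsAffineOpen V' ∧ x ∈ V' ∧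
      ∃ c : Fin N → Γ(X, V'), rM E hle e = lc E σ le_top c := by
  classical
  obtain ⟨cs, hcs⟩ := (Submodule.mem_span_range_iff_exists_fun _).1
    (hσ.ge (Submodule.mem_top (x := E.presheaf.germ V x hx e)))
  choose Vj hxj cj hcj using fun j => TopCat.Presheaf.exists_germ_eq X.presheaf (cs j)
  let V₁ : X.Opens := V ⊓ (⟨⋂ j, (Vj j : Set X), isOpen_iInter_of_finite fun j => (Vj j).2⟩ : X.Opens)
  have hx₁ : x ∈ V₁ := ⟨hx, Set.mem_iInter.2 hxj⟩
  have hle₁ : ∀ j, V₁ ≤ Vj j := fun j y hy => Set.mem_iInter.1 hy.2 j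
  have heq : E.presheaf.germ V₁ x hx₁ (rM E inf_le_left e) =
      E.presheaf.germ V₁ x hx₁ (lc E σ le_top fun j => rO (hle₁ j) (cj j)) := by
    rw [show E.presheaf.germ V₁ x hx₁ (rM E inf_le_left e) = E.presheaf.germ V x hx e from
      TopCat.Presheaf.germ_res_apply E.presheaf _ x hx₁ e, ← hcs, lc, map_sum]
    refine Finset.sum_congr rfl fun j _ => ?_
    rw [Groth.L20.ModStalk.germ_smul]
    congr 1
    · rw [← hcj j]
      exact (TopCat.Presheaf.germ_res_apply X.presheaf _ x hx₁ _).symm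
    · exact (TopCat.Presheaf.germ_res_apply E.presheaf _ x hx₁ _).symm
  obtain ⟨W, hxW, i₁, i₂, hW⟩ := E.presheaf.germ_eq x hx₁ hx₁ _ _ heq
  obtain ⟨_, ⟨V', hV', rfl⟩, hxV', hV'W⟩ := X.isBasis_affineOpens.exists_subset_of_mem_open hxW W.2
  have hW1 : W ≤ V₁ := i₁.le
  have hVW : V' ≤ W := hV'W
  refine ⟨V', (hVW.trans hW1).trans inf_le_left, hV', hxV', fun j => rO ((hVW.trans hW1).trans (hle₁ j)) (cj j), ?_⟩
  have h2 : rM E hW1 (rM E inf_le_left e) = rM E hW1 (lc E σ le_top fun j => rO (hle₁ j) (cj j)) := hW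
  have h3 := congrArg (rM E hVW) h2
  rw [rM_rM, rM_rM, rM_rM, rM_lc] at h3
  refine h3.trans ?_
  unfold lc
  exact Finset.sum_congr rfl fun j _ => by dsimp only; rw [rO_rO]

/-- A neighbourhood with a basis extending the sections, on which given generators have coefficients. -/
theorem exists_chart {h N : ℕ} {τ : Fin h → Γ(E, ⊤)} {σ : Fin N → Γ(E, ⊤)} {x : X} (hx : Part E r τ x)
    (hσ : Submodule.span (X.presheaf.stalk x) (Set.range fun j => E.presheaf.germ ⊤ x trivial (σ j)) = ⊤) :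
    ∃ (V : X.Opens) (e : Fin r → Γ(E, V)) (g : Fin h ↪ Fin r) (a : Matrix (Fin r) (Fin N) Γ(X, V))
      (s : Matrix (Fin N) (Fin r) Γ(X, V)), IsAffineOpen V ∧ x ∈ V ∧ IsBasisOn E V e ∧
      (∀ i, e (g i) = rM E le_top (τ i)) ∧
      (∀ j, lc E e le_rfl (fun i => a i j) = rM E le_top (σ j)) ∧ a * s = 1 := by
  classical
  obtain ⟨U₀, e₀, g, hU₀, hxU₀, he₀, heg⟩ := hx
  choose Vi hle hVi hxi ci hci using fun i => exists_coeff_nhd σ hσ hxU₀ (e₀ i)
  obtain ⟨_, ⟨V, hV, rfl⟩, hxV, hVsub⟩ := X.isBasis_affineOpens.exists_subset_of_mem_open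
    (show x ∈ (U₀ : Set X) ∩ ⋂ i, (Vi i : Set X) from ⟨hxU₀, Set.mem_iInter.2 hxi⟩)
    (U₀.2.inter (isOpen_iInter_of_finite fun i => (Vi i).2))
  have hV₀ : V ≤ U₀ := fun y hy => (hVsub hy).1
  have hVi' : ∀ i, V ≤ Vi i := fun i y hy => Set.mem_iInter.1 (hVsub hy).2 i
  let e : Fin r → Γ(E, V) := fun i => rM E hV₀ (e₀ i)
  have he : IsBasisOn E V e := he₀.mono hV₀
  choose a ha using fun j => (he V le_rfl).2 (rM E le_top (σ j))
  let s : Matrix (Fin N) (Fin r) Γ(X, V) := Matrix.of fun j i => rO (hVi' i) (ci i j)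
  let A : Matrix (Fin r) (Fin N) Γ(X, V) := Matrix.of fun i j => a j i
  have hes : ∀ i, e i = lc E σ (le_top (a := V)) fun j => s j i := fun i => by
    have h1 := congrArg (rM E (hVi' i)) (hci i)
    rw [rM_rM, rM_lc] at h1
    exact h1
  have hAB : A * s = 1 := by
    refine Matrix.ext fun i l => ?_
    refine congrFun ((he V le_rfl).1 (a₁ := fun i => (A * s) i l) (a₂ := fun i => (1 : Matrix _ _ _) i l) ?_) i
    have h1 : (fun i => (1 : Matrix (Fin r) (Fin r) Γ(X, V)) i l) = Pi.single l 1 := by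
      funext i; simp [Matrix.one_apply, Pi.single_apply]
    rw [h1, lc_single, rM_self, hes l]
    simp only [lc, Matrix.mul_apply, Finset.sum_smul, A, Matrix.of_apply, ← ha, rM_self, Finset.smul_sum, smul_smul]
    rw [Finset.sum_comm]
    refine Finset.sum_congr rfl fun j _ => Finset.sum_congr rfl fun i _ => ?_
    rw [mul_comm]
  refine ⟨V, e, g, A, s, hV, hxV, he, fun i => ?_, fun j => ha j, hAB⟩
  show rM E hV₀ (e₀ (g i)) = _
  rw [heg, rM_rM]

variable (f : X ⟶ U) {k : Type u} [Field k] [Infinite k] (ψ : k →+* Γ(U, ⊤))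

include ψ in
/-- One more section, adapted along a fibre of dimension at most one. -/
theorem exists_step [IsAffine U] [LocallyOfFiniteType f] [QuasiCompact f] (u : U)
    (hdim : topologicalKrullDim ↥(f.fiber u) ≤ 1)
    {N h : ℕ} {σ : Fin N → Γ(E, ⊤)} {τ : Fin h → Γ(E, ⊤)} (hh : h + 1 < r)
    (hσ : ∀ x, f x = u →
      Submodule.span (X.presheaf.stalk x) (Set.range fun j => E.presheaf.germ ⊤ x trivial (σ j)) = ⊤)
    (hτ : ∀ x, f x = u → Part E r τ x) :
    ∃ τ' : Fin (h + 1) → Γ(E, ⊤), ∀ x, f x = u → Part E r τ' x := by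
  classical
  letI : (f.fiber u).Over (Spec (CommRingCat.of (U.residueField u))) := ⟨f.fiberToSpecResidueField u⟩
  haveI : LocallyOfFiniteType (f.fiber u ↘ Spec (CommRingCat.of (U.residueField u))) :=
    inferInstanceAs (LocallyOfFiniteType (pullback.snd f (U.fromSpecResidueField u)))
  haveI : IsAffineHom (f.fiberι u) := MorphismProperty.pullback_fst _ _ inferInstance
  let j : k →+* U.residueField u :=
    ((Scheme.ΓSpecIso (U.residueField u)).hom.hom.comp (U.fromSpecResidueField u).appTop.hom).comp ψ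
  let κ := U.residueField u
  let cst : k → Γ(X, ⊤) := fun c => f.appTop.hom (ψ c)
  have hcst : ∀ (c : k) (V : X.Opens), (f.fiberι u).app V (rO le_top (cst c)) =
      Groth.L22.SchemeDim.sectHom (U.residueField u) (f.fiber u) (f.fiberι u ⁻¹ᵁ V) (j c) := by
    intro c V
    have h1 : (f.fiberι u).app V (rO le_top (cst c)) =
        rO (le_top (a := f.fiberι u ⁻¹ᵁ V)) ((f.fiberι u ≫ f).appTop.hom (ψ c)) :=
      congr($((f.fiberι u).naturality (homOfLE (le_top (a := V))).op) (cst c))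
    rw [h1, f.fiber_fac]
    show rO _ ((f.fiberToSpecResidueField u).appTop.hom ((U.fromSpecResidueField u).appTop.hom (ψ c))) = _
    show _ = rO _ ((f.fiberToSpecResidueField u).appTop.hom ((Scheme.ΓSpecIso (U.residueField u)).inv.hom (j c)))
    congr 2
    exact (congr($((Scheme.ΓSpecIso (U.residueField u)).hom_inv_id) ((U.fromSpecResidueField u).appTop.hom (ψ c)))).symm
  have key : ∀ z : f.fiber u, ∃ (V : X.Opens) (e : Fin r → Γ(E, V)) (g : Fin h ↪ Fin r)
      (a : Matrix (Fin r) (Fin N) Γ(X, V)) (P : MvPolynomial (Fin N) (U.residueField u)),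
      IsAffineOpen V ∧ f.fiberι u z ∈ V ∧ IsBasisOn E V e ∧ (∀ i, e (g i) = rM E le_top (τ i)) ∧
      (∀ j, lc E e le_rfl (fun i => a i j) = rM E le_top (σ j)) ∧ P ≠ 0 ∧
      ∀ c : Fin N → U.residueField u, MvPolynomial.eval c P ≠ 0 → Ideal.span
        (Set.range fun i : {i : Fin r // i ∉ Set.range g} =>
          ∑ l, Groth.L22.SchemeDim.sectHom (U.residueField u) (f.fiber u) (f.fiberι u ⁻¹ᵁ V) (c l) *
            (f.fiberι u).app V (a i.1 l)) = ⊤ := by
    intro z
    have hz : f (f.fiberι u z) = u := by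
      have : f.fiberι u z ∈ f ⁻¹' {u} := by rw [← f.range_fiberι u]; exact ⟨z, rfl⟩
      exact this
    obtain ⟨V, e, g, a, s, hV, hxV, he, heg, ha, has⟩ := exists_chart (hτ _ hz) (hσ _ hz)
    let π : Γ(X, V) →+* Γ(f.fiber u, f.fiberι u ⁻¹ᵁ V) := ((f.fiberι u).app V).hom
    let ι : Fin (Fintype.card {i : Fin r // i ∉ Set.range g}) ≃ {i : Fin r // i ∉ Set.range g} :=
      (Fintype.equivFin _).symm
    have hcard : Fintype.card {i : Fin r // i ∉ Set.range g} = r - h := by
      rw [Fintype.card_subtype_compl, Fintype.card_fin]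
      congr 1
      exact (Fintype.card_congr (Equiv.ofInjective _ g.injective).symm).trans (Fintype.card_fin h)
    letI : Algebra (U.residueField u) Γ(f.fiber u, f.fiberι u ⁻¹ᵁ V) :=
      (Groth.L22.SchemeDim.sectHom (U.residueField u) (f.fiber u) (f.fiberι u ⁻¹ᵁ V)).toAlgebra
    have hVf : IsAffineOpen (f.fiberι u ⁻¹ᵁ V) := hV.preimage _
    haveI : Algebra.FiniteType (U.residueField u) Γ(f.fiber u, f.fiberι u ⁻¹ᵁ V) :=
      RingHom.finiteType_algebraMap.1 (Groth.L22.SchemeDim.finiteType_sectHom _ _ hVf)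
    have hd : ringKrullDim Γ(f.fiber u, f.fiberι u ⁻¹ᵁ V) ≤ (1 : ℕ) := by
      rw [← Groth.L22.SchemeDim.topologicalKrullDim_affineOpen hVf]
      exact (topologicalKrullDim_subspace_le _ _).trans (by exact_mod_cast hdim)
    have has' : a.map π * s.map π = 1 := by
      rw [← Matrix.map_mul, has, Matrix.map_one π (map_zero π) (map_one π)]
    obtain ⟨P, hP, hPc⟩ := Groth.L03.GeneralVector.exists_poly (k := U.residueField u)
      (fun i l => (a.map π) (ι i).1 l) (fun l i => (s.map π) l (ι i).1) (by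
        refine Matrix.ext fun i l => ?_
        have := congrFun (congrFun has' (ι i).1) (ι l).1
        rw [Matrix.mul_apply] at this ⊢
        rw [this, Matrix.one_apply, Matrix.one_apply]
        simp only [Subtype.val_inj, ι.injective.eq_iff]) hd (by omega)
    refine ⟨V, e, g, a, P, hV, hxV, he, heg, ha, hP, fun c hc => ?_⟩
    rw [← hPc c hc]
    exact congrArg Ideal.span (ι.surjective.range_comp _).symm
  choose V e g a P hV hzV he heg ha hP hPc using key
  obtain ⟨T, hT⟩ := isCompact_univ.elim_finite_subcover (fun z : f.fiber u => (f.fiberι u ⁻¹ᵁ V z : Set (f.fiber u)))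
    (fun z => (f.fiberι u ⁻¹ᵁ V z).2) (fun z _ => Set.mem_iUnion.2 ⟨z, hzV z⟩)
  obtain ⟨c, hc⟩ : ∃ c : Fin N → k, ∀ z ∈ T, MvPolynomial.eval (fun l => j (c l)) (P z) ≠ 0 := by
    by_contra hcon
    refine Finset.prod_ne_zero_iff.2 (fun z _ => hP z) (MvPolynomial.funext_set (fun _ => Set.range j)
      (fun _ => Set.infinite_range_of_injective j.injective) (p := ∏ z ∈ T, P z) (q := 0) fun x hx => ?_)
    choose c hc using fun l => hx l (Set.mem_univ l)
    rw [map_zero]
    by_contra h0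
    rw [map_prod] at h0
    replace h0 := Finset.prod_ne_zero_iff.1 h0
    exact hcon ⟨c, fun z hz => by rw [show (fun l => j (c l)) = x from funext hc]; exact h0 z hz⟩
  let new : Γ(E, ⊤) := lc E σ le_rfl fun l => cst (c l)
  refine ⟨Fin.snoc τ new, fun y hy => ?_⟩
  obtain ⟨z₀, rfl⟩ : y ∈ Set.range (f.fiberι u) := by rw [f.range_fiberι u]; exact hy
  obtain ⟨z, hz, hyV⟩ := Set.mem_iUnion₂.1 (hT (Set.mem_univ z₀))
  let w : Fin r → Γ(X, V z) := fun i => ∑ l, rO le_top (cst (c l)) * a z i l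
  have hnew : rM E le_top new = lc E (e z) le_rfl w := by
    rw [show rM E (le_top : V z ≤ ⊤) new = _ from rM_lc σ le_rfl le_top _]
    simp only [lc, w, Finset.sum_smul, mul_smul]
    rw [Finset.sum_comm]
    refine Finset.sum_congr rfl fun l _ => ?_
    rw [← Finset.smul_sum, ← ha z l]
    rfl
  obtain ⟨i₀, hi₀, hy0⟩ : ∃ i, i ∉ Set.range (g z) ∧ f.fiberι u z₀ ∈ X.basicOpen (w i) := by
    by_contra hcon
    have htop := hPc z (fun l => j (c l)) (hc z hz)
    have hw : ∀ i, (f.fiberι u).app (V z) (w i) = ∑ l,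
        Groth.L22.SchemeDim.sectHom (U.residueField u) (f.fiber u) (f.fiberι u ⁻¹ᵁ V z) (j (c l)) *
          (f.fiberι u).app (V z) (a z i l) := fun i => by
      simp only [w, map_sum, map_mul, hcst]
    simp only [← hw] at htop
    have hle : Ideal.span (Set.range fun i : {i : Fin r // i ∉ Set.range (g z)} => (f.fiberι u).app (V z) (w i.1)) ≤
        (IsLocalRing.maximalIdeal ((f.fiber u).presheaf.stalk z₀)).comap
          ((f.fiber u).presheaf.germ (f.fiberι u ⁻¹ᵁ V z) z₀ hyV).hom := by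
      rw [Ideal.span_le]
      rintro _ ⟨i, rfl⟩
      rw [SetLike.mem_coe, Ideal.mem_comap, IsLocalRing.mem_maximalIdeal]
      intro hu
      refine hcon ⟨i.1, i.2, ?_⟩
      have h1 := ((f.fiber u).mem_basicOpen' ((f.fiberι u).app (V z) (w i.1)) ⟨z₀, hyV⟩).2 hu
      rw [← Scheme.preimage_basicOpen] at h1
      exact h1
    rw [htop, top_le_iff] at hle
    exact Ideal.comap_ne_top _ (IsLocalRing.maximalIdeal.isMaximal _).ne_top hle
  have hle : X.basicOpen (w i₀) ≤ V z := X.basicOpen_le _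
  let e₀ : Fin r → Γ(E, X.basicOpen (w i₀)) := fun i => rM E hle (e z i)
  let w₀ : Fin r → Γ(X, X.basicOpen (w i₀)) := fun i => rO hle (w i)
  have hw₀ : IsUnit (w₀ i₀) := RingedSpace.isUnit_res_basicOpen X.toLocallyRingedSpace.toRingedSpace (w i₀)
  let g' : Fin (h + 1) ↪ Fin r := ⟨Fin.snoc (g z) i₀, Fin.snoc_injective_of_injective (g z).injective hi₀⟩
  refine ⟨_, _, g', (hV z).basicOpen (w i₀), hy0, isBasisOn_update ((he z).mono hle) w₀ i₀ hw₀, fun i => ?_⟩
  induction i using Fin.lastCases with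
  | last =>
    show Function.update e₀ i₀ _ ((Fin.snoc (g z) i₀ : Fin (h + 1) → Fin r) (Fin.last h)) = rM E le_top ((Fin.snoc τ new : Fin (h + 1) → Γ(E, ⊤)) (Fin.last h))
    rw [Fin.snoc_last, Fin.snoc_last, Function.update_self,
      ← rM_rM E (le_top : V z ≤ ⊤) hle, hnew, rM_lc]
    simp only [lc, e₀, w₀, rM_rM]
  | cast i =>
    show Function.update e₀ i₀ _ ((Fin.snoc (g z) i₀ : Fin (h + 1) → Fin r) i.castSucc) = rM E le_top ((Fin.snoc τ new : Fin (h + 1) → Γ(E, ⊤)) i.castSucc)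
    rw [Fin.snoc_castSucc, Fin.snoc_castSucc, Function.update_of_ne (fun h' => hi₀ ⟨i, h'⟩)]
    show rM E hle (e z (g z i)) = _
    rw [heg, rM_rM]

include ψ in
/-- Sections spanning a trivial subbundle of corank one along the fibre. -/
theorem exists_part [IsAffine U] [LocallyOfFiniteType f] [QuasiCompact f] (u : U)
    (hdim : topologicalKrullDim ↥(f.fiber u) ≤ 1) (hE : FlatMod.IsFinLocFreeOfRank r E)
    {N : ℕ} {σ : Fin N → Γ(E, ⊤)}
    (hσ : ∀ x, f x = u →
      Submodule.span (X.presheaf.stalk x) (Set.range fun j => E.presheaf.germ ⊤ x trivial (σ j)) = ⊤) :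
    ∀ h : ℕ, h < r → ∃ τ : Fin h → Γ(E, ⊤), ∀ x, f x = u → Part E r τ x
  | 0, _ => ⟨Fin.elim0, fun x _ => part_zero hE _ x⟩
  | h + 1, hh => by
    obtain ⟨τ, hτ⟩ := exists_part u hdim hE hσ h (by omega)
    exact exists_step f ψ u hdim hh hσ hτ

/-- A condition open on the source holding on a fibre holds over a neighbourhood. -/
theorem exists_nhd [IsAffine U] [UniversallyClosed f] (u : U) {P : X → Prop} (hP : IsOpen {x | P x})
    (h : ∀ x, f x = u → P x) : ∃ a : Γ(U, ⊤), u ∈ U.basicOpen a ∧ ∀ x, f x ∈ U.basicOpen a → P x := by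
  have hcl : IsClosed (f '' {x | P x}ᶜ) := f.isClosedMap _ hP.isClosed_compl
  obtain ⟨a, ha, hua⟩ := (isAffineOpen_top U).exists_basicOpen_le (V := ⟨_, hcl.isOpen_compl⟩)
    ⟨u, fun ⟨x, hx, hxu⟩ => hx (h x hxu)⟩ trivial
  exact ⟨a, hua, fun x hx => by_contra fun hn => ha hx ⟨x, hn, rfl⟩⟩

end Groth.L21.FibSec
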