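import Groth.Agent.L21.FibSec.Basic
import Groth.Agent.L07.FibreDimSemi
import Groth.Agent.S2768
import Groth.Prelude.Def_Curv2

/-!
Consequences of adapted sections: subbundles, finitely many generators near a fibre, chains of subobjects.
-/

set_option autoImplicit false
set_option backward.isDefEq.respectTransparency false
set_option linter.style.haveILetI false

universe u

open CategoryTheory CategoryTheory.Limits AlgebraicGeometry TopologicalSpace Opposite

noncomputable section

namespace Groth.L21.FibSec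

open Groth.L12.FinCov
open Groth.L03.ShStab.TrivialGG (unitVec desc_unitVec bijective_unitVec)
open Groth.L03.ShStab.GeneralSections (Adapted isBasisOn_unitVec isBasisOn_restrict nonempty_cokernel_iso
  mono_of_restrict hom_ext_one isIso_desc_of_basis)

variable {X : Scheme.{u}} {E : X.Modules} {r : ℕ}

/-- The restriction of a global section to an open subscheme. -/
def res (E : X.Modules) (W : X.Opens) (s : Γ(E, ⊤)) : Γ(E.restrict W.ι, ⊤) :=
  rM E le_top s

/-- A basis over an open gives a basis on the trace of that open. -/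
theorem isBasisOn_trace {V W : X.Opens} {e : Fin r → Γ(E, V)} (he : IsBasisOn E V e) (hVW : V ≤ W) :
    IsBasisOn (E.restrict W.ι) (W.ι ⁻¹ᵁ V) fun i =>
      (rM E (W.ι.image_preimage_eq_opensRange_inf V ▸ inf_le_right) (e i) : Γ(E.restrict W.ι, W.ι ⁻¹ᵁ V)) := by
  intro A hA
  let ee := (W.ι.appIso A).commRingCatIsoToRingEquiv
  have h0 : W.ι ''ᵁ (W.ι ⁻¹ᵁ V) ≤ V := W.ι.image_preimage_eq_opensRange_inf V ▸ inf_le_right
  have h1 : W.ι ''ᵁ A ≤ V := (W.ι.image_mono hA).trans h0
  refine Eq.mp (congrArg Function.Bijective ?_)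
    ((he (W.ι ''ᵁ A) h1).comp (Equiv.piCongrRight fun _ : Fin r => ee.symm.toEquiv).bijective)
  funext c
  simp only [lc, Function.comp_apply]
  refine Finset.sum_congr rfl fun i _ => ?_
  show ee.symm (c i) • rM E h1 (e i) = ee.symm (c i) • rM E (W.ι.image_mono hA) (rM E h0 (e i))
  rw [rM_rM]

/-- Sections adapted at every point of an open are adapted on it. -/
theorem adapted_restrict {h : ℕ} {τ : Fin h → Γ(E, ⊤)} (W : X.Opens) (hτ : ∀ x ∈ W, Part E r τ x) :
    Adapted (E.restrict W.ι) r fun i => res E W (τ i) := by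
  intro y
  obtain ⟨V, e, g, hV, hyV, he, heg⟩ := hτ (W.ι y) y.2
  obtain ⟨_, ⟨V', hV', rfl⟩, hy', hle⟩ := X.isBasis_affineOpens.exists_subset_of_mem_open
    (show W.ι y ∈ (V ⊓ W : X.Opens) from ⟨hyV, y.2⟩) (V ⊓ W).2
  have hle1 : V' ≤ V := fun a ha => (hle ha).1
  have hle2 : V' ≤ W := fun a ha => (hle ha).2
  have h0 : W.ι ''ᵁ (W.ι ⁻¹ᵁ V') ≤ V' := W.ι.image_preimage_eq_opensRange_inf V' ▸ inf_le_right
  refine ⟨W.ι ⁻¹ᵁ V', _, g, hV'.preimage_of_isOpenImmersion _ (by rwa [W.opensRange_ι]), hy',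
    isBasisOn_trace (he.mono hle1) hle2, fun i => ?_⟩
  show rM E h0 (rM E hle1 (e (g i))) = rM E (W.ι.image_mono le_top) (rM E le_top (τ i))
  rw [heg, rM_rM, rM_rM, rM_rM]

theorem adapted_comp {h h' : ℕ} {τ : Fin h → Γ(E, ⊤)} (hτ : Adapted E r τ) (j : Fin h' ↪ Fin h) :
    Adapted E r (τ ∘ j) := fun x => by
  obtain ⟨V, e, g, hV, hx, he, heg⟩ := hτ x
  exact ⟨V, e, j.trans g, hV, hx, he, fun i => heg (j i)⟩

theorem adapted_unitVec (n : ℕ) {m : ℕ} (g : Fin m ↪ Fin n) :
    Adapted (FlatMod.freeMod X n) n fun i => unitVec n (g i) := fun x => by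
  obtain ⟨_, ⟨V, hV, rfl⟩, hx, -⟩ := X.isBasis_affineOpens.exists_subset_of_mem_open
    (show x ∈ ((⊤ : X.Opens) : Set X) from trivial) (⊤ : X.Opens).2
  exact ⟨V, _, g, hV, hx, (isBasisOn_unitVec n).mono le_top, fun i => rfl⟩

/-- The map from a free module given by sections. -/
def desc {h : ℕ} (τ : Fin h → Γ(E, ⊤)) : FlatMod.freeMod X h ⟶ E :=
  Sigma.desc fun i => Groth.L16.homOfSection E (τ i)

/-- Adapted sections span a subbundle. -/
theorem subbundle {h n : ℕ} {τ : Fin h → Γ(E, ⊤)} (hτ : Adapted E r τ) (hr : r = h + n) :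
    Mono (desc τ) ∧ FlatMod.IsFinLocFreeOfRank n (cokernel (desc τ)) := by
  classical
  refine ⟨mono_of_restrict _ fun x => ?_, fun x => ?_⟩
  · obtain ⟨U, e, g, -, hx, he, heg⟩ := hτ x
    have hb := Groth.L17.PullBasis.bijective_stalk E e (fun V g => he V g.le) x hx
    refine (injective_iff_map_eq_zero _).2 fun v hv => ?_
    obtain ⟨c, rfl⟩ := (bijective_unitVec h x).2 v
    have h1 : ∑ i, c i • E.presheaf.germ U x hx (e (g i)) = 0 := by
      rw [← hv, map_sum]
      refine Finset.sum_congr rfl fun i _ => ?_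
      rw [map_smul, RefHull.stalkMapₗ_germ, desc, desc_unitVec, heg]
      congr 1
      exact TopCat.Presheaf.germ_res_apply E.presheaf _ x hx _
    let c' : Fin r → X.presheaf.stalk x := Function.extend g c 0
    have h2 : c' = 0 := hb.1 (by
      simp only [Pi.zero_apply, zero_smul, Finset.sum_const_zero]
      rw [← Finset.sum_subset (Finset.subset_univ (Finset.univ.map g)) (fun i _ hi => by
        rw [Finset.mem_map] at hi
        simp only [c', Function.extend_apply' _ _ _ (fun ⟨l, hl⟩ => hi ⟨l, Finset.mem_univ _, hl⟩),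
          Pi.zero_apply, zero_smul]), Finset.sum_map]
      refine (Finset.sum_congr rfl fun i _ => ?_).trans h1
      simp only [c', g.injective.extend_apply]
      rfl)
    have hc : c = 0 := funext fun i => by
      have := congrFun h2 (g i)
      simpa only [c', g.injective.extend_apply, Pi.zero_apply] using this
    simp [hc]
  · obtain ⟨U, e, g, -, hx, he, heg⟩ := hτ x
    let R := Scheme.Modules.restrictFunctor U.ι
    obtain ⟨-, ⟨i⟩⟩ := nonempty_cokernel_iso (n := n) (R.map (desc τ))
      (isBasisOn_restrict ((isBasisOn_unitVec (X := X) h).mono (le_top : U ≤ ⊤)))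
      (isBasisOn_restrict he) g hr fun i => by
        show (desc τ).app (U.ι ''ᵁ ⊤) (rM _ (image_ι_top U).le (rM _ le_top (unitVec h i))) =
          rM E (image_ι_top U).le (e (g i))
        rw [app_rM, app_rM, heg]
        exact congrArg _ (congrArg _ (desc_unitVec τ i))
    exact ⟨U, hx, ⟨PreservesCokernel.iso R (desc τ) ≪≫ i⟩⟩

/-- A globally generated bundle is generated near a compact set by finitely many sections. -/
theorem exists_finite_span (hE : FlatMod.IsFinLocFreeOfRank r E) (hgen : Curv2.IsGloballyGenerated E)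
    {K : Set X} (hK : IsCompact K) :
    ∃ (N : ℕ) (σ : Fin N → Γ(E, ⊤)), ∀ x ∈ K,
      Submodule.span (X.presheaf.stalk x) (Set.range fun j => E.presheaf.germ ⊤ x trivial (σ j)) = ⊤ := by
  classical
  obtain ⟨ι, p, hp⟩ := hgen
  let s : ι → Γ(E, ⊤) := fun i => (Sigma.ι (fun _ : ι => Coh.structureModule X) i ≫ p).app ⊤ (1 : Γ(X, ⊤))
  let sp : ∀ x : X, Finset ι → Submodule (X.presheaf.stalk x) (E.presheaf.stalk x) := fun x T =>
    Submodule.span _ (Set.range fun j : T => E.presheaf.germ ⊤ x trivial (s j))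
  have hx : ∀ x : X, ∃ (T : Finset ι) (W : X.Opens), x ∈ W ∧ ∀ y ∈ W, sp y T = ⊤ := by
    intro x
    let F := Groth.L00.Stk.F X x
    let R : ι → Submodule (X.presheaf.stalk x) (F.obj E) := fun i =>
      Submodule.span _ {E.presheaf.germ ⊤ x trivial (s i)}
    have htop : (⨆ i, R i) = ⊤ := by
      have h0 : F.map p ≫ ModuleCat.ofHom (⨆ i, R i).mkQ = 0 := by
        refine (isColimitOfPreserves F (coproductIsCoproduct fun _ : ι => Coh.structureModule X)).hom_ext fun ⟨i⟩ => ?_
        refine ModuleCat.hom_ext (LinearMap.ext fun a => ?_)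
        show (⨆ i, R i).mkQ ((F.map p).hom ((F.map (Sigma.ι (fun _ : ι => Coh.structureModule X) i)).hom a)) = 0
        refine (Submodule.Quotient.mk_eq_zero _).2 (Submodule.mem_iSup_of_mem i ?_)
        obtain ⟨c, rfl⟩ := (Groth.L21.RR.bijective_smul_one x).2 a
        refine Submodule.mem_span_singleton.2 ⟨c, ?_⟩
        show c • E.presheaf.germ ⊤ x trivial (s i) = RefHull.stalkMapₗ p x (RefHull.stalkMapₗ
          (Sigma.ι (fun _ : ι => Coh.structureModule X) i) x (c • Groth.L21.RR.one X x))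
        rw [map_smul, map_smul]
        congr 1
        show E.presheaf.germ ⊤ x trivial (s i) = RefHull.stalkMapₗ p x (RefHull.stalkMapₗ
          (Sigma.ι (fun _ : ι => Coh.structureModule X) i) x
          ((Coh.structureModule X).presheaf.germ ⊤ x trivial (1 : Γ(X, ⊤))))
        erw [RefHull.stalkMapₗ_germ, RefHull.stalkMapₗ_germ]
        rfl
      haveI : Epi (F.map p) := inferInstance
      refine eq_top_iff.2 fun m _ => ?_
      obtain ⟨a, ha⟩ := (ModuleCat.epi_iff_surjective _).1 this m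
      rw [← ha, ← Submodule.Quotient.mk_eq_zero]
      exact congr($(h0) a)
    obtain ⟨V, e, -, hxV, -, he⟩ := exists_basisOn_of_rank hE x ⊤ trivial
    have hb := Groth.L17.PullBasis.bijective_stalk E e (fun W g => he W g.le) x hxV
    haveI : Module.Finite (X.presheaf.stalk x) (F.obj E) :=
      Module.Finite.of_surjective (Fintype.linearCombination (X.presheaf.stalk x)
        fun i => (show F.obj E from E.presheaf.germ V x hxV (e i))) fun m => by
          obtain ⟨c, hc⟩ := hb.2 m
          exact ⟨c, (Fintype.linearCombination_apply _ _ _).trans hc⟩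
    obtain ⟨T, hT⟩ := CompleteLattice.IsCompactElement.exists_finset_of_le_iSup _
      ((Submodule.fg_iff_compact ⊤).1 Module.Finite.fg_top) R htop.ge
    have hspan : sp x T = ⊤ := eq_top_iff.2 (hT.trans (iSup₂_le fun i hi => by
      rw [Submodule.span_singleton_le_iff_mem]
      exact Submodule.subset_span ⟨⟨i, hi⟩, rfl⟩))
    let σ : Fin T.card → Γ(E, ⊤) := fun j => s (T.equivFin.symm j).1
    have hr : ∀ y, Set.range (fun j => E.presheaf.germ ⊤ y trivial (σ j)) =
        Set.range fun j : T => E.presheaf.germ ⊤ y trivial (s j) := fun y =>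
      T.equivFin.symm.surjective.range_comp fun j : T => E.presheaf.germ ⊤ y trivial (s j)
    choose Vi hle hVi hxi ci hci using fun i => exists_coeff_nhd σ
      (show Submodule.span _ _ = ⊤ by rw [hr]; exact hspan) hxV (e i)
    refine ⟨T, V ⊓ ⟨⋂ i, (Vi i : Set X), isOpen_iInter_of_finite fun i => (Vi i).2⟩,
      ⟨hxV, Set.mem_iInter.2 hxi⟩, fun y hy => ?_⟩
    have hyV : y ∈ V := hy.1
    have hby := Groth.L17.PullBasis.bijective_stalk E e (fun W g => he W g.le) y hyV
    refine eq_top_iff.2 fun m _ => ?_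
    obtain ⟨c, rfl⟩ := hby.2 m
    refine Submodule.sum_mem _ fun i _ => Submodule.smul_mem _ _ ?_
    have hyi : y ∈ Vi i := Set.mem_iInter.1 hy.2 i
    show E.presheaf.germ V y hyV (e i) ∈ sp y T
    rw [show E.presheaf.germ V y hyV (e i) = E.presheaf.germ (Vi i) y hyi (rM E (hle i) (e i)) from
      (TopCat.Presheaf.germ_res_apply E.presheaf _ y hyi (e i)).symm, hci i, lc, map_sum]
    refine Submodule.sum_mem _ fun j _ => ?_
    rw [Groth.L20.ModStalk.germ_smul]
    refine Submodule.smul_mem _ _ (Submodule.subset_span ⟨T.equivFin.symm j, ?_⟩)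
    exact (TopCat.Presheaf.germ_res_apply E.presheaf _ y hyi (σ j)).symm
  choose T W hxW hW using hx
  obtain ⟨S, hS⟩ := hK.elim_finite_subcover (fun x => (W x : Set X)) (fun x => (W x).2)
    (fun x _ => Set.mem_iUnion.2 ⟨x, hxW x⟩)
  refine ⟨(S.biUnion T).card, fun j => s ((S.biUnion T).equivFin.symm j).1, fun x hx => ?_⟩
  obtain ⟨z, hz, hxz⟩ := Set.mem_iUnion₂.1 (hS hx)
  refine eq_top_iff.2 (le_trans (hW z x hxz).ge (Submodule.span_mono ?_))
  rintro _ ⟨⟨i, hi⟩, rfl⟩
  exact ⟨(S.biUnion T).equivFin ⟨i, Finset.mem_biUnion.2 ⟨z, hz, hi⟩⟩, by simp⟩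

/-- Fibres of a morphism smooth of relative dimension one. -/
theorem fibre_dim_le_one {U : Scheme.{u}} (f : X ⟶ U) [SmoothOfRelativeDimension 1 f] (u : U) :
    topologicalKrullDim ↥(f.fiber u) ≤ 1 := by
  rw [Groth.L07.FibreDim.fiber_dim_le_iff]
  intro x _
  rw [Groth.Agent.S2768.result 1 f x]
  norm_num

end Groth.L21.FibSec
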