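import Groth.Agent.L21.FibSec.Bundle
import Groth.Agent.L12.ExtSh.TensBasis
import Groth.Agent.L12.StabLimit
import Groth.Agent.L22.PDual.TwistExt
import Groth.Agent.L29.LocFree

/-!
Filtrations by subobjects with line bundle quotients.
-/

set_option autoImplicit false
set_option backward.isDefEq.respectTransparency false
set_option linter.style.haveILetI false

universe u

open CategoryTheory CategoryTheory.Limits AlgebraicGeometry TopologicalSpace Opposite

noncomputable section

namespace Groth.L21.FibSec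

open Groth.L12.FinCov
open Groth.L03.ShStab.TrivialGG (unitVec desc_unitVec)
open Groth.L03.ShStab.GeneralSections (Adapted isBasisOn_restrict isIso_desc_of_basis isBasisOn_unitVec)
open Groth.L00.Tensor (tensorRightF)

variable {X Z : Scheme.{u}} {r : ℕ}

theorem rank_of_bases {M : X.Modules} (h : ∀ x : X, ∃ (V : X.Opens) (b : Fin r → Γ(M, V)), x ∈ V ∧ IsBasisOn M V b) :
    FlatMod.IsFinLocFreeOfRank r M := fun x => by
  obtain ⟨V, b, hx, hb⟩ := h x
  haveI := isIso_desc_of_basis (isBasisOn_restrict hb)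
  exact ⟨V, hx, ⟨(asIso (Sigma.desc fun i => Groth.L16.homOfSection (M.restrict V.ι)
    (rM M (image_ι_top V).le (b i) : Γ(M.restrict V.ι, ⊤)))).symm⟩⟩

theorem rank_iso {M M' : X.Modules} (e : M ≅ M') (h : FlatMod.IsFinLocFreeOfRank r M) :
    FlatMod.IsFinLocFreeOfRank r M' := fun x => by
  obtain ⟨V, hx, ⟨i⟩⟩ := h x
  exact ⟨V, hx, ⟨((Scheme.Modules.restrictFunctor V.ι).mapIso e).symm ≪≫ i⟩⟩

theorem rank_tensor {M N : X.Modules} {p q : ℕ} (hM : FlatMod.IsFinLocFreeOfRank p M)
    (hN : FlatMod.IsFinLocFreeOfRank q N) : FlatMod.IsFinLocFreeOfRank (p * q) (CohB1.tensorMod M N) :=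
  rank_of_bases fun x => by
    obtain ⟨V, b, -, hx, -, hb⟩ := exists_basisOn_of_rank hM x ⊤ trivial
    obtain ⟨V', c, -, hx', -, hc⟩ := exists_basisOn_of_rank hN x ⊤ trivial
    exact ⟨V ⊓ V', _, ⟨hx, hx'⟩, Groth.L12.ExtSh.isBasisOn_tens (hb.mono inf_le_left) (hc.mono inf_le_right)⟩

theorem rank_restrict (j : Z ⟶ X) [IsOpenImmersion j] {M : X.Modules} (h : FlatMod.IsFinLocFreeOfRank r M) :
    FlatMod.IsFinLocFreeOfRank r (M.restrict j) :=
  rank_iso ((Scheme.Modules.restrictFunctorIsoPullback j).app M).symm (Groth.L12.StabLimit.isFinLocFreeOfRank_pullback j h)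

/-- A chain of subbundles with line bundle quotients. -/
def Chain (E : X.Modules) (r : ℕ) : Prop :=
  ∃ (A : Fin (r + 1) → X.Modules) (j : ∀ i, A i ⟶ E) (t : ∀ i : Fin r, A i.castSucc ⟶ A i.succ),
    (∀ i, Mono (j i)) ∧ (∀ i, t i ≫ j i.succ = j i.castSucc) ∧ IsIso (j (Fin.last r)) ∧
      (∀ i : Fin (r + 1), FlatMod.IsFinLocFreeOfRank (i : ℕ) (A i)) ∧
      ∀ i : Fin r, FlatMod.IsFinLocFreeOfRank 1 (cokernel (t i))

theorem Chain.iso {E E' : X.Modules} (h : Chain E r) (θ : E ≅ E') : Chain E' r := by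
  obtain ⟨A, j, t, hj, ht, hlast, hA, hq⟩ := h
  refine ⟨A, fun i => j i ≫ θ.hom, t, fun i => ?_, fun i => ?_, ?_, hA, hq⟩
  · haveI := hj i; infer_instance
  · rw [← Category.assoc, ht i]
  · haveI := hlast; infer_instance

theorem Chain.restrict {E : X.Modules} (h : Chain E r) (e : Z ⟶ X) [IsOpenImmersion e] :
    Chain (E.restrict e) r := by
  obtain ⟨A, j, t, hj, ht, hlast, hA, hq⟩ := h
  let R := Scheme.Modules.restrictFunctor e
  refine ⟨fun i => R.obj (A i), fun i => R.map (j i), fun i => R.map (t i), fun i => ?_, fun i => ?_, ?_,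
    fun i => rank_restrict e (hA i), fun i => rank_iso (PreservesCokernel.iso R (t i)) (rank_restrict e (hq i))⟩
  · haveI := hj i; infer_instance
  · rw [← R.map_comp, ht i]
  · haveI := hlast; infer_instance

theorem Chain.twist {E : X.Modules} (h : Chain E r) {N : X.Modules} (hN : FlatMod.IsFinLocFreeOfRank 1 N)
    (hNi : (tensorRightF N).IsEquivalence) : Chain (CohB1.tensorMod E N) r := by
  obtain ⟨A, j, t, hj, ht, hlast, hA, hq⟩ := h
  haveI := hNi
  refine ⟨fun i => (tensorRightF N).obj (A i), fun i => (tensorRightF N).map (j i),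
    fun i => (tensorRightF N).map (t i), fun i => ?_, fun i => ?_, ?_, fun i => ?_, fun i => ?_⟩
  · haveI := hj i; exact inferInstanceAs (Mono ((tensorRightF N).map (j i)))
  · rw [← Functor.map_comp, ht i]
  · haveI := hlast; exact inferInstanceAs (IsIso ((tensorRightF N).map (j (Fin.last r))))
  · show FlatMod.IsFinLocFreeOfRank (i : ℕ) (CohB1.tensorMod (A i) N)
    simpa using rank_tensor (hA i) hN
  · exact rank_iso (PreservesCokernel.iso (tensorRightF N) (t i)) (by
      show FlatMod.IsFinLocFreeOfRank 1 (CohB1.tensorMod (cokernel (t i)) N)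
      simpa using rank_tensor (hq i) hN)

/-- The subobjects of a chain. -/
theorem Chain.subobjects {E : X.Modules} (h : Chain E r) :
    ∃ F : Fin (r + 1) → Subobject E,
        Monotone F ∧ F 0 = ⊥ ∧ F (Fin.last r) = ⊤ ∧
        (∀ i : Fin (r + 1), FlatMod.IsFinLocFreeOfRank (i : ℕ) (Subobject.underlying.obj (F i))) ∧
        (∀ i : Fin r, ∃ h : F i.castSucc ≤ F i.succ,
          FlatMod.IsFinLocFreeOfRank 1 (cokernel ((F i.castSucc).ofLE (F i.succ) h))) := by
  obtain ⟨A, j, t, hj, ht, hlast, hA, hq⟩ := h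
  haveI := hj
  let F : Fin (r + 1) → Subobject E := fun i => Subobject.mk (j i)
  have hle : ∀ i : Fin r, F i.castSucc ≤ F i.succ := fun i => Subobject.mk_le_mk_of_comm (t i) (ht i)
  refine ⟨F, Fin.monotone_iff_le_succ.2 hle, ?_, ?_, fun i => rank_iso (Subobject.underlyingIso (j i)).symm (hA i),
    fun i => ⟨hle i, rank_iso ?_ (hq i)⟩⟩
  · refine Subobject.mk_eq_bot_iff_zero.2 (IsZero.eq_of_src ?_ _ _)
    refine (Groth.L21.Mod.isZero_iff_stalk_subsingleton _).2 fun x => ?_
    obtain ⟨V, b, -, hx, -, hb⟩ := exists_basisOn_of_rank (hA 0) x ⊤ trivial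
    have hbb := Groth.L17.PullBasis.bijective_stalk (A 0) b (fun W g => hb W g.le) x hx
    haveI : Subsingleton (Fin ((0 : Fin (r + 1)) : ℕ) → X.presheaf.stalk x) :=
      ⟨fun a b => funext fun l => absurd l.2 (by simp)⟩
    exact hbb.2.subsingleton
  · haveI := hlast
    exact Subobject.mk_eq_top_of_isIso _
  · refine cokernel.mapIso _ _ (Subobject.underlyingIso (j i.castSucc)).symm (Subobject.underlyingIso (j i.succ)).symm ?_
    rw [← cancel_mono (Subobject.mk (j i.succ)).arrow]
    simp [F, ht i]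

/-- Adapted sections of corank one give a chain. -/
theorem chain_of_adapted {E : X.Modules} {m : ℕ} {τ : Fin m → Γ(E, ⊤)} (hE : FlatMod.IsFinLocFreeOfRank (m + 1) E)
    (hτ : Adapted E (m + 1) τ) : Chain E (m + 1) := by
  classical
  let τi : ∀ i : Fin (m + 1), Fin (i : ℕ) → Γ(E, ⊤) := fun i => τ ∘ Fin.castLEEmb (Nat.lt_succ_iff.1 i.2)
  let A : Fin (m + 1 + 1) → X.Modules := Fin.snoc (fun i : Fin (m + 1) => FlatMod.freeMod X i) E
  have eA : ∀ i : Fin (m + 1), A i.castSucc = FlatMod.freeMod X i := fun i => Fin.snoc_castSucc ..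
  have eL : A (Fin.last (m + 1)) = E := Fin.snoc_last ..
  let j : ∀ i : Fin (m + 1 + 1), A i ⟶ E := fun i => Fin.lastCases (motive := fun i => A i ⟶ E)
    (eqToHom eL) (fun i => eqToHom (eA i) ≫ desc (τi i)) i
  have jL : j (Fin.last (m + 1)) = eqToHom eL := Fin.lastCases_last ..
  have jC : ∀ i : Fin (m + 1), j i.castSucc = eqToHom (eA i) ≫ desc (τi i) := fun i => Fin.lastCases_castSucc ..
  let inc : ∀ i : Fin m, FlatMod.freeMod X (i : ℕ) ⟶ FlatMod.freeMod X ((i : ℕ) + 1) := fun i =>
    desc fun l : Fin (i : ℕ) => unitVec ((i : ℕ) + 1) (Fin.castSuccEmb l)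
  have hinc : ∀ i : Fin m, inc i ≫ desc (τi i.succ) = desc (τi i.castSucc) := fun i => by
    refine Sigma.hom_ext _ _ fun l => Groth.L03.ShStab.GeneralSections.hom_ext_one ?_
    simp only [inc, desc, Sigma.ι_desc, ← Category.assoc]
    refine ((congrArg _ (Groth.L21.RR.app_homOfSection_one _)).trans ?_).trans
      (Groth.L21.RR.app_homOfSection_one _).symm
    exact desc_unitVec _ _
  have eS : ∀ i : Fin m, A (i.castSucc.succ) = FlatMod.freeMod X ((i : ℕ) + 1) := fun i => by
    rw [Fin.succ_castSucc]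
    exact eA i.succ
  have eSL : A ((Fin.last m).succ) = E := by rw [Fin.succ_last]; exact eL
  let t : ∀ i : Fin (m + 1), A i.castSucc ⟶ A i.succ := fun i =>
    Fin.lastCases (motive := fun i => A i.castSucc ⟶ A i.succ)
      (eqToHom (eA _) ≫ desc (τi (Fin.last m)) ≫ eqToHom eSL.symm)
      (fun i => eqToHom (eA _) ≫ inc i ≫ eqToHom (eS i).symm) i
  have jeq : ∀ {a b : Fin (m + 1 + 1)} (h : a = b), j a = eqToHom (congrArg A h) ≫ j b := by
    rintro a b rfl; simp
  have jSL : j (Fin.last m).succ = eqToHom eSL := by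
    rw [jeq (Fin.succ_last m), jL, eqToHom_trans]
  have jS : ∀ i : Fin m, j (i.castSucc.succ) = eqToHom (eS i) ≫ desc (τi i.succ) := fun i => by
    rw [jeq (Fin.succ_castSucc i), jC, ← Category.assoc, eqToHom_trans]
  refine ⟨A, j, t, fun i => ?_, fun i => ?_, ?_, fun i => ?_, fun i => ?_⟩
  · induction i using Fin.lastCases with
    | last => rw [jL]; infer_instance
    | cast i =>
      rw [jC]
      haveI := (subbundle (n := m + 1 - i) (adapted_comp hτ (Fin.castLEEmb (Nat.lt_succ_iff.1 i.2))) (by omega)).1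
      exact mono_comp _ _
  · induction i using Fin.lastCases with
    | last =>
      simp only [t, Fin.lastCases_last, jC, jSL, Category.assoc, eqToHom_trans, eqToHom_refl, Category.comp_id]
    | cast i =>
      simp only [t, Fin.lastCases_castSucc, jC, jS, Category.assoc, eqToHom_trans_assoc, eqToHom_refl,
        Category.id_comp, hinc]
  · rw [jL]; infer_instance
  · induction i using Fin.lastCases with
    | last => exact eL.symm ▸ hE
    | cast i => exact (eA i).symm ▸ (rank_of_bases fun x => ⟨⊤, unitVec i, trivial, isBasisOn_unitVec i⟩ :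
      FlatMod.IsFinLocFreeOfRank i (FlatMod.freeMod X i))
  · induction i using Fin.lastCases with
    | last =>
      simp only [t, Fin.lastCases_last]
      refine rank_iso ((cokernelEpiComp _ _) ≪≫ (cokernelCompIsIso _ _)).symm ?_
      exact (subbundle (n := 1) (adapted_comp hτ (Fin.castLEEmb (Nat.lt_succ_iff.1 (Fin.last m).2))) (by simp)).2
    | cast i =>
      simp only [t, Fin.lastCases_castSucc]
      refine rank_iso ((cokernelEpiComp _ _) ≪≫ (cokernelCompIsIso _ _)).symm ?_
      exact (subbundle (n := 1) (adapted_unitVec _ Fin.castSuccEmb) rfl).2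

end Groth.L21.FibSec
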