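import Groth.Agent.L21.FibSec.Bundle
import Groth.Agent.L22.CurveDeg.Det.ExtPow
import Groth.Agent.L16.QcqsPush
import Groth.Agent.L16.SemiBasis.Basic
import Groth.Agent.L04.FinLocFreeHom

/-!
Completing a subbundle of corank one to a basis with the help of a trivialisation of the determinant.
-/

set_option autoImplicit false
set_option backward.isDefEq.respectTransparency false
set_option linter.style.haveILetI false

universe u

open CategoryTheory CategoryTheory.Limits AlgebraicGeometry TopologicalSpace Opposite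

noncomputable section

namespace Groth.L21.FibSec

open Groth.L12.FinCov
open Groth.L22.CurveDeg.Det (wedge rs_wedge wedge_comb bijective_smul_wedge')

variable {X : Scheme.{u}} {E D : X.Modules} {m : ℕ}

/-- A family of sections with unit determinant against a basis, seen on stalks. -/
theorem bijective_stalk_of_det {V : X.Opens} {e b : Fin (m + 1) → Γ(E, V)} (he : IsBasisOn E V e)
    (S : Matrix (Fin (m + 1)) (Fin (m + 1)) Γ(X, V)) (hS : ∀ k, b k = lc E e le_rfl fun i => S i k)
    (hdet : IsUnit S.det) : IsBasisOn E V b := by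
  have h := Groth.L16.SemiBasis.isBasisOn_of_isUnit_det he b S hS
  have hV : X.basicOpen S.det = V := X.basicOpen_of_isUnit hdet
  intro U hU
  refine Eq.mp (congrArg Function.Bijective (funext fun c => ?_)) (h U (hU.trans hV.ge))
  simp only [lc, rM_rM]

/-- A subbundle of corank one of a bundle with trivial determinant extends to a basis over an affine open. -/
theorem exists_basis_of_det {W : X.Opens} (hW : IsAffineOpen W) (hE : FlatMod.IsFinLocFreeOfRank (m + 1) E)
    (hD : ExtPow.IsExtPow (m + 1) E D) (ξ : D ≅ Coh.structureModule X) (τ : Fin m → Γ(E, W))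
    (hτ : ∀ y ∈ W, ∃ (V : X.Opens) (hVW : V ≤ W) (e : Fin (m + 1) → Γ(E, V)) (g : Fin m ↪ Fin (m + 1)),
      IsAffineOpen V ∧ y ∈ V ∧ IsBasisOn E V e ∧ ∀ i, e (g i) = rM E hVW (τ i)) :
    ∃ b : Fin (m + 1) → Γ(E, W), IsBasisOn E W b := by
  classical
  obtain ⟨Φ, hΦ⟩ := hD
  haveI : Coh.IsQCoh E := Groth.L04.FinLocFreeHom.isQCoh_of_finLocFree fun x => by
    obtain ⟨U, hU, e⟩ := hE x; exact ⟨U, m + 1, hU, e⟩
  let Wa : X.affineOpens := ⟨W, hW⟩
  -- the functional
  let lin : Γ(E, W) →ₗ[Γ(X, W)] ↥(⋀[Γ(X, W)]^(m + 1) (E.val.obj (op W))) :=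
    (exteriorPower.ιMulti Γ(X, W) (m + 1) (M := E.val.obj (op W))).toMultilinearMap.toLinearMap
      (Fin.snoc τ 0 : Fin (m + 1) → Γ(E, W)) (Fin.last m)
  have hlin : ∀ v : Γ(E, W), (Φ Wa).symm (lin v) = wedge Φ Wa (Fin.snoc τ v) := fun v => by
    show (Φ Wa).symm (exteriorPower.ιMulti Γ(X, W) (m + 1) (M := E.val.obj (op W))
      (Function.update (Fin.snoc τ 0 : Fin (m + 1) → Γ(E, W)) (Fin.last m) v)) = _
    rw [Fin.update_snoc_last]
    rfl
  let θ : Γ(E, W) → Γ(X, W) := fun v => ξ.hom.app W ((Φ Wa).symm (lin v))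
  let θₗ : Γ(E, W) →ₗ[Γ(X, W)] Γ(X, W) :=
    { toFun := θ
      map_add' := fun a b => by simp only [θ, map_add]
      map_smul' := fun a v => by
        simp only [θ, map_smul, RingHom.id_apply]
        exact Scheme.Modules.Hom.app_smul ξ.hom a _ }
  have hgen : ∀ {V : X.Opens} (hV : IsAffineOpen V) (e : Fin (m + 1) → Γ(E, V)), IsBasisOn E V e →
      IsUnit (show Γ(X, V) from ξ.hom.app V (wedge Φ ⟨V, hV⟩ e)) := fun {V} hV e he => by
    haveI := ConcreteCategory.bijective_of_isIso (ξ.hom.app V)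
    obtain ⟨w, hw⟩ := (ConcreteCategory.bijective_of_isIso (ξ.hom.app V)).2 (1 : Γ(X, V))
    obtain ⟨a, ha⟩ := (bijective_smul_wedge' Φ ⟨V, hV⟩ e fun U h => he U h).2 w
    dsimp only at ha
    rw [← ha, Scheme.Modules.Hom.app_smul] at hw
    exact IsUnit.of_mul_eq_one_right a hw
  -- it is surjective
  have hsurj : LinearMap.range θₗ = ⊤ := by
    by_contra hne
    obtain ⟨M, hM, hle⟩ := Ideal.exists_le_maximal _ hne
    let p : PrimeSpectrum Γ(X, W) := ⟨M, hM.isPrime⟩
    let y : X := hW.fromSpec p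
    have hyW : y ∈ W := hW.range_fromSpec.le ⟨p, rfl⟩
    have hmem : ∀ t : Γ(X, W), y ∈ X.basicOpen t → t ∉ M := fun t ht => by
      have h1 : p ∈ hW.fromSpec ⁻¹ᵁ X.basicOpen t := ht
      rw [hW.fromSpec_preimage_basicOpen] at h1
      exact h1
    obtain ⟨V, hVW, e, g, hV, hyV, he, heg⟩ := hτ y hyW
    obtain ⟨i₀, hi₀⟩ : ∃ i, i ∉ Set.range g := by
      by_contra h
      push Not at h
      have := Fintype.card_le_of_surjective g h
      simp at this
    obtain ⟨a, haV, hya⟩ := hW.exists_basicOpen_le ⟨y, hyV⟩ hyW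
    obtain ⟨n, v, hv⟩ := Groth.L16.QcqsPush.exists_pow_smul_eq_res E hW.isCompact hW.isQuasiSeparated a
      (rM E haV (e i₀))
    let π : Fin (m + 1) → Fin (m + 1) := Fin.snoc g i₀
    let σp : Equiv.Perm (Fin (m + 1)) := Equiv.ofBijective π
      (Finite.injective_iff_bijective.1 (Fin.snoc_injective_of_injective g.injective hi₀))
    have hDa := hW.basicOpen a
    let e' : Fin (m + 1) → Γ(E, X.basicOpen a) := fun l => rM E haV (e (σp l))
    have he' : IsBasisOn E (X.basicOpen a) e' := fun U hU => by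
      have h1 := (he U (hU.trans haV)).comp (Equiv.arrowCongr σp (Equiv.refl Γ(X, U))).bijective
      refine Eq.mp (congrArg Function.Bijective (funext fun c => ?_)) h1
      simp only [Function.comp_apply, lc, e', rM_rM]
      rw [← Equiv.sum_comp σp]
      simp
    have hfam : (fun j => rM E (X.basicOpen_le a) ((Fin.snoc τ v : Fin (m + 1) → Γ(E, W)) j)) =
        Function.update e' (Fin.last m) (rO (X.basicOpen_le a) (a ^ n) • e' (Fin.last m)) := by
      funext j
      induction j using Fin.lastCases with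
      | last =>
        rw [Fin.snoc_last, Function.update_self]
        refine hv.trans ?_
        show _ = _ • rM E haV (e ((Fin.snoc g i₀ : Fin (m + 1) → Fin (m + 1)) (Fin.last m)))
        rw [Fin.snoc_last]
      | cast i =>
        rw [Fin.snoc_castSucc, Function.update_of_ne (Fin.castSucc_lt_last i).ne]
        show _ = rM E haV (e ((Fin.snoc g i₀ : Fin (m + 1) → Fin (m + 1)) i.castSucc))
        rw [Fin.snoc_castSucc, heg, rM_rM]
    have hres : rO (X.basicOpen_le a) (θ v) =
        rO (X.basicOpen_le a) (a ^ n) * (show Γ(X, X.basicOpen a) from ξ.hom.app _ (wedge Φ ⟨_, hDa⟩ e')) := by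
      show rM (Coh.structureModule X) (X.basicOpen_le a) (ξ.hom.app W ((Φ Wa).symm (lin v))) = _
      rw [hlin, ← app_rM]
      rw [show rM D (X.basicOpen_le a) (wedge Φ Wa (Fin.snoc τ v)) = wedge Φ ⟨_, hDa⟩ fun j =>
        rM E (X.basicOpen_le a) ((Fin.snoc τ v : Fin (m + 1) → Γ(E, W)) j) from rs_wedge Φ hΦ Wa ⟨_, hDa⟩ _ _, hfam]
      show ξ.hom.app _ ((Φ ⟨_, hDa⟩).symm (exteriorPower.ιMulti Γ(X, X.basicOpen a) (m + 1)
        (M := E.val.obj (op (X.basicOpen a))) _)) = _
      erw [AlternatingMap.map_update_smul, Function.update_eq_self, map_smul, Scheme.Modules.Hom.app_smul]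
      rfl
    have hu : IsUnit (rO (X.basicOpen_le a) (θ v)) := by
      rw [hres]
      refine IsUnit.mul ?_ (hgen hDa e' he')
      show IsUnit ((X.presheaf.map (homOfLE (X.basicOpen_le a)).op).hom (a ^ n))
      rw [map_pow]
      exact (RingedSpace.isUnit_res_basicOpen X.toLocallyRingedSpace.toRingedSpace a).pow n
    refine hmem (θ v) ?_ (hle ⟨v, rfl⟩)
    rw [X.mem_basicOpen _ y hyW]
    have := hu.map (X.presheaf.germ (X.basicOpen a) y hya).hom
    rwa [show X.presheaf.germ (X.basicOpen a) y hya (rO (X.basicOpen_le a) (θ v)) =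
      X.presheaf.germ W y hyW (θ v) from TopCat.Presheaf.germ_res_apply X.presheaf _ y hya _] at this
  obtain ⟨σ, hσ⟩ : (1 : Γ(X, W)) ∈ LinearMap.range θₗ := hsurj ▸ Submodule.mem_top
  refine ⟨Fin.snoc τ σ, ?_⟩
  let b : Fin (m + 1) → Γ(E, W) := Fin.snoc τ σ
  have hloc : ∀ y ∈ W, ∃ (V : X.Opens) (hVW : V ≤ W), y ∈ V ∧ IsBasisOn E V fun i => rM E hVW (b i) := by
    intro y hy
    obtain ⟨V, hVW, e, g, hV, hyV, he, heg⟩ := hτ y hy
    choose S hS using fun k => (he V le_rfl).2 (rM E hVW (b k))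
    refine ⟨V, hVW, hyV, bijective_stalk_of_det he (Matrix.of fun i k => S k i) (fun k => (hS k).symm) ?_⟩
    have h1 : rM D hVW (wedge Φ Wa b) = (Matrix.of S).det • wedge Φ ⟨V, hV⟩ e := by
      rw [← wedge_comb Φ ⟨V, hV⟩ e (Matrix.of S)]
      refine (rs_wedge Φ hΦ Wa ⟨V, hV⟩ hVW b).trans (congrArg _ (funext fun k => ?_))
      refine (hS k).symm.trans ?_
      simp only [lc, rM_self]
      rfl
    have h2 : (show Γ(X, V) from ξ.hom.app V (rM D hVW (wedge Φ Wa b))) = 1 := by
      have h3 : (show Γ(X, W) from ξ.hom.app W (wedge Φ Wa b)) = 1 := by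
        rw [← hlin]
        exact hσ
      rw [app_rM]
      show rO hVW (show Γ(X, W) from ξ.hom.app W (wedge Φ Wa b)) = 1
      rw [h3]
      exact map_one _
    rw [h1, Scheme.Modules.Hom.app_smul] at h2
    rw [show (Matrix.of fun i k => S k i) = (Matrix.of S).transpose from rfl, Matrix.det_transpose]
    exact IsUnit.of_mul_eq_one _ h2
  intro U hU
  have hst : ∀ (y : X) (hy : y ∈ W), Function.Bijective fun c : Fin (m + 1) → X.presheaf.stalk y =>
      ∑ i, c i • E.presheaf.germ W y hy (b i) := fun y hy => by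
    obtain ⟨V, hVW, hyV, hb⟩ := hloc y hy
    refine Eq.mp (congrArg Function.Bijective (funext fun c => Finset.sum_congr rfl fun i _ => ?_))
      (Groth.L17.PullBasis.bijective_stalk E _ (fun V' g => hb V' g.le) y hyV)
    congr 1
    exact TopCat.Presheaf.germ_res_apply E.presheaf _ y hyV (b i)
  exact Groth.L17.PullBasis.isBasis_of_stalk E b hst U (homOfLE hU)

end Groth.L21.FibSec
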